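import Cfsg.Agent.H908.P9.Run.R00
import Cfsg.Agent.H908.P9.Run.R01
import Cfsg.Agent.H908.P9.Run.R02
import Cfsg.Agent.H908.P9.Run.R03
import Cfsg.Agent.H908.P9.Run.R04
import Cfsg.Agent.H908.P9.Run.R05
import Cfsg.Agent.H908.P9.Run.R06
import Cfsg.Agent.H908.P9.Run.R07
import Cfsg.Agent.H908.P9.Run.R08
import Cfsg.Agent.H908.P9.Run.R09
import Cfsg.Agent.H908.P9.Run.R10
import Cfsg.Agent.H908.P9.Run.R11
import Cfsg.Agent.H908.P9.Run.R12
import Cfsg.Agent.H908.P9.Run.R13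
import Cfsg.Agent.H908.P9.Run.R14
import Cfsg.Agent.H908.P9.Run.R15
import Cfsg.Agent.H908.P9.Run.R16
import Cfsg.Agent.H908.P9.Run.R17
import Cfsg.Agent.H908.P9.Run.R18
import Cfsg.Agent.H908.P9.Run.R19
import Cfsg.Agent.H908.P9.Run.R20
import Cfsg.Agent.H908.P9.Run.R21
import Cfsg.Agent.H908.P9.Run.R22
import Cfsg.Agent.H908.P9.Run.R23
import Cfsg.Agent.H908.P9.Run.R24
import Cfsg.Agent.H908.P9.Run.R25
import Cfsg.Agent.H908.P9.Run.R26
import Cfsg.Agent.H908.P9.Run.R27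
import Cfsg.Agent.H908.P9.Run.R28
import Cfsg.Agent.H908.P9.Run.R29
import Cfsg.Agent.H908.P9.Run.R30
import Cfsg.Agent.H908.P9.Run.R31
import Cfsg.Agent.H908.P9.Run.R32
import Cfsg.Agent.H908.P9.Run.R33
import Cfsg.Agent.H908.P9.Run.R34
import Cfsg.Agent.H908.P9.Run.R35
import Cfsg.Agent.H908.P9.Run.R36
import Cfsg.Agent.H908.P9.Run.R37
import Cfsg.Agent.H908.P9.Run.R38
import Cfsg.Agent.H908.P9.Run.R39
import Cfsg.Agent.H908.P9.Run.R40
import Cfsg.Agent.H908.P9.Run.R41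
import Cfsg.Agent.H908.P9.Run.R42
import Cfsg.Agent.H908.P9.Run.R43
import Cfsg.Agent.H908.P9.Run.R44
import Cfsg.Agent.H908.P9.Run.R45
import Cfsg.Agent.H908.P9.Run.R46
import Cfsg.Agent.H908.P9.Run.R47
import Cfsg.Agent.H908.P9.Run.R48
import Cfsg.Agent.H908.P9.Run.R49
import Cfsg.Agent.H908.P9.Run.R50
import Cfsg.Agent.H908.P9.Run.R51
import Cfsg.Agent.H908.P9.Run.R52
import Cfsg.Agent.H908.P9.Run.R53
import Cfsg.Agent.H908.P9.Run.R54
import Cfsg.Agent.H908.P9.Run.R55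
import Cfsg.Agent.H908.P9.Run.R56
import Cfsg.Agent.H908.P9.Run.R57
import Cfsg.Agent.H908.P9.Run.R58
import Cfsg.Agent.H908.P9.Run.R59
import Cfsg.Agent.H908.P9.Run.R60
import Cfsg.Agent.H908.P9.Run.R61
import Cfsg.Agent.H908.P9.Run.R62
import Cfsg.Agent.H908.P9.Run.R63
import Cfsg.Agent.H908.P9.Run.R64
import Cfsg.Agent.H908.P9.Run.R65
import Cfsg.Agent.H908.P9.Run.R66
import Cfsg.Agent.H908.P9.Run.R67
import Cfsg.Agent.H908.P9.Run.R68
import Cfsg.Agent.H908.P9.Run.R69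
import Cfsg.Agent.H908.P9.Run.R70
import Cfsg.Agent.H908.P9.Run.R71
import Cfsg.Agent.H908.P9.Run.R72

/-! # S5925, box H: all digit vectors (helper908) -/

set_option autoImplicit false

namespace Cfsg.Agent.H908.P9.Run
open Cfsg.Agent.H728.PM Cfsg.Agent.H136.P9

theorem all (d : ℕ) (h : d < 2187) : rng plan d 1 = true := by
  rcases Nat.lt_or_ge d 30 with h0 | h0
  · exact b00 d (Nat.zero_le d) h0
  rcases Nat.lt_or_ge d 60 with h1 | h1
  · exact b01 d h0 h1
  rcases Nat.lt_or_ge d 90 with h2 | h2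
  · exact b02 d h1 h2
  rcases Nat.lt_or_ge d 120 with h3 | h3
  · exact b03 d h2 h3
  rcases Nat.lt_or_ge d 150 with h4 | h4
  · exact b04 d h3 h4
  rcases Nat.lt_or_ge d 180 with h5 | h5
  · exact b05 d h4 h5
  rcases Nat.lt_or_ge d 210 with h6 | h6
  · exact b06 d h5 h6
  rcases Nat.lt_or_ge d 240 with h7 | h7
  · exact b07 d h6 h7
  rcases Nat.lt_or_ge d 270 with h8 | h8
  · exact b08 d h7 h8
  rcases Nat.lt_or_ge d 300 with h9 | h9
  · exact b09 d h8 h9
  rcases Nat.lt_or_ge d 330 with h10 | h10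
  · exact b10 d h9 h10
  rcases Nat.lt_or_ge d 360 with h11 | h11
  · exact b11 d h10 h11
  rcases Nat.lt_or_ge d 390 with h12 | h12
  · exact b12 d h11 h12
  rcases Nat.lt_or_ge d 420 with h13 | h13
  · exact b13 d h12 h13
  rcases Nat.lt_or_ge d 450 with h14 | h14
  · exact b14 d h13 h14
  rcases Nat.lt_or_ge d 480 with h15 | h15
  · exact b15 d h14 h15
  rcases Nat.lt_or_ge d 510 with h16 | h16
  · exact b16 d h15 h16
  rcases Nat.lt_or_ge d 540 with h17 | h17
  · exact b17 d h16 h17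
  rcases Nat.lt_or_ge d 570 with h18 | h18
  · exact b18 d h17 h18
  rcases Nat.lt_or_ge d 600 with h19 | h19
  · exact b19 d h18 h19
  rcases Nat.lt_or_ge d 630 with h20 | h20
  · exact b20 d h19 h20
  rcases Nat.lt_or_ge d 660 with h21 | h21
  · exact b21 d h20 h21
  rcases Nat.lt_or_ge d 690 with h22 | h22
  · exact b22 d h21 h22
  rcases Nat.lt_or_ge d 720 with h23 | h23
  · exact b23 d h22 h23
  rcases Nat.lt_or_ge d 750 with h24 | h24
  · exact b24 d h23 h24
  rcases Nat.lt_or_ge d 780 with h25 | h25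
  · exact b25 d h24 h25
  rcases Nat.lt_or_ge d 810 with h26 | h26
  · exact b26 d h25 h26
  rcases Nat.lt_or_ge d 840 with h27 | h27
  · exact b27 d h26 h27
  rcases Nat.lt_or_ge d 870 with h28 | h28
  · exact b28 d h27 h28
  rcases Nat.lt_or_ge d 900 with h29 | h29
  · exact b29 d h28 h29
  rcases Nat.lt_or_ge d 930 with h30 | h30
  · exact b30 d h29 h30
  rcases Nat.lt_or_ge d 960 with h31 | h31
  · exact b31 d h30 h31
  rcases Nat.lt_or_ge d 990 with h32 | h32
  · exact b32 d h31 h32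
  rcases Nat.lt_or_ge d 1020 with h33 | h33
  · exact b33 d h32 h33
  rcases Nat.lt_or_ge d 1050 with h34 | h34
  · exact b34 d h33 h34
  rcases Nat.lt_or_ge d 1080 with h35 | h35
  · exact b35 d h34 h35
  rcases Nat.lt_or_ge d 1110 with h36 | h36
  · exact b36 d h35 h36
  rcases Nat.lt_or_ge d 1140 with h37 | h37
  · exact b37 d h36 h37
  rcases Nat.lt_or_ge d 1170 with h38 | h38
  · exact b38 d h37 h38
  rcases Nat.lt_or_ge d 1200 with h39 | h39
  · exact b39 d h38 h39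
  rcases Nat.lt_or_ge d 1230 with h40 | h40
  · exact b40 d h39 h40
  rcases Nat.lt_or_ge d 1260 with h41 | h41
  · exact b41 d h40 h41
  rcases Nat.lt_or_ge d 1290 with h42 | h42
  · exact b42 d h41 h42
  rcases Nat.lt_or_ge d 1320 with h43 | h43
  · exact b43 d h42 h43
  rcases Nat.lt_or_ge d 1350 with h44 | h44
  · exact b44 d h43 h44
  rcases Nat.lt_or_ge d 1380 with h45 | h45
  · exact b45 d h44 h45
  rcases Nat.lt_or_ge d 1410 with h46 | h46
  · exact b46 d h45 h46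
  rcases Nat.lt_or_ge d 1440 with h47 | h47
  · exact b47 d h46 h47
  rcases Nat.lt_or_ge d 1470 with h48 | h48
  · exact b48 d h47 h48
  rcases Nat.lt_or_ge d 1500 with h49 | h49
  · exact b49 d h48 h49
  rcases Nat.lt_or_ge d 1530 with h50 | h50
  · exact b50 d h49 h50
  rcases Nat.lt_or_ge d 1560 with h51 | h51
  · exact b51 d h50 h51
  rcases Nat.lt_or_ge d 1590 with h52 | h52
  · exact b52 d h51 h52
  rcases Nat.lt_or_ge d 1620 with h53 | h53
  · exact b53 d h52 h53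
  rcases Nat.lt_or_ge d 1650 with h54 | h54
  · exact b54 d h53 h54
  rcases Nat.lt_or_ge d 1680 with h55 | h55
  · exact b55 d h54 h55
  rcases Nat.lt_or_ge d 1710 with h56 | h56
  · exact b56 d h55 h56
  rcases Nat.lt_or_ge d 1740 with h57 | h57
  · exact b57 d h56 h57
  rcases Nat.lt_or_ge d 1770 with h58 | h58
  · exact b58 d h57 h58
  rcases Nat.lt_or_ge d 1800 with h59 | h59
  · exact b59 d h58 h59
  rcases Nat.lt_or_ge d 1830 with h60 | h60
  · exact b60 d h59 h60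
  rcases Nat.lt_or_ge d 1860 with h61 | h61
  · exact b61 d h60 h61
  rcases Nat.lt_or_ge d 1890 with h62 | h62
  · exact b62 d h61 h62
  rcases Nat.lt_or_ge d 1920 with h63 | h63
  · exact b63 d h62 h63
  rcases Nat.lt_or_ge d 1950 with h64 | h64
  · exact b64 d h63 h64
  rcases Nat.lt_or_ge d 1980 with h65 | h65
  · exact b65 d h64 h65
  rcases Nat.lt_or_ge d 2010 with h66 | h66
  · exact b66 d h65 h66
  rcases Nat.lt_or_ge d 2040 with h67 | h67
  · exact b67 d h66 h67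
  rcases Nat.lt_or_ge d 2070 with h68 | h68
  · exact b68 d h67 h68
  rcases Nat.lt_or_ge d 2100 with h69 | h69
  · exact b69 d h68 h69
  rcases Nat.lt_or_ge d 2130 with h70 | h70
  · exact b70 d h69 h70
  rcases Nat.lt_or_ge d 2160 with h71 | h71
  · exact b71 d h70 h71
  exact b72 d h71 h

/-- the hypothesis of `rng_sound` -/
theorem rng_all : ∀ d < 2187, ∃ a n, a ≤ d ∧ d < a + n ∧ rng plan a n = true :=
  fun d hd => ⟨d, 1, Nat.le_refl d, Nat.lt_succ_self d, all d hd⟩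

end Cfsg.Agent.H908.P9.Run
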